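import Cfsg.Agent.Lib.PGroups.Basic
import Cfsg.Agent.Lib.PGroups.Commutator
import Cfsg.Agent.Lib.Coprime.Action
import Cfsg.Agent.Lib.Base.Transport

/-!
# Coprime elements centralising all elements of order p (and 4)
A p'-element normalising a p-group and centralising its elements of order p (of order dividing 4
when p = 2) centralises the whole p-group.
-/

set_option autoImplicit false

namespace CfsgLib.CoprimeSmall

open Subgroup
open scoped commutatorElement

variable {G : Type*} [Group G]

theorem eq_one_of_commute_of_coprime {p : ℕ} [hp : Fact p.Prime] {x a c : G} {U : Subgroup G}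
    (hU : IsPGroup p U) (hx : ¬ p ∣ orderOf x) (hc : c ∈ U) (hxc : Commute x c)
    (hxa : x * a * x⁻¹ = a * c) : c = 1 := by
  have key : ∀ k : ℕ, x ^ k * a * (x ^ k)⁻¹ = a * c ^ k := by
    intro k
    induction k with
    | zero => simp
    | succ k ih =>
      calc x ^ (k + 1) * a * (x ^ (k + 1))⁻¹ = x * (x ^ k * a * (x ^ k)⁻¹) * x⁻¹ := by
            rw [pow_succ']; group
        _ = x * (a * c ^ k) * x⁻¹ := by rw [ih]
        _ = (x * a * x⁻¹) * (x * c ^ k * x⁻¹) := by group
        _ = (a * c) * c ^ k := by rw [hxa, (hxc.pow_right k).eq, mul_inv_cancel_right]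
        _ = a * c ^ (k + 1) := by rw [mul_assoc, ← pow_succ']
  have h1 := key (orderOf x)
  rw [pow_orderOf_eq_one, one_mul, inv_one, mul_one, left_eq_mul] at h1
  obtain ⟨n, hn⟩ := hU ⟨c, hc⟩
  have hn' : c ^ p ^ n = 1 := congrArg Subtype.val hn
  have hcop : Nat.Coprime (orderOf x) (p ^ n) :=
    (((hp.out.coprime_iff_not_dvd).mpr hx).pow_left n).symm
  have := orderOf_dvd_of_pow_eq_one h1
  exact orderOf_eq_one_iff.mp (Nat.eq_one_of_dvd_coprimes hcop this (orderOf_dvd_of_pow_eq_one hn'))

/-- A p'-element normalising a p-group and fixing its elements of order p (and 4) centralises it. -/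
theorem commute_of_small_order [Finite G] {p : ℕ} [hp : Fact p.Prime] {x : G}
    (hx : ¬ p ∣ orderOf x) (U : Subgroup G) (hU : IsPGroup p U)
    (hxU : x ∈ normalizer (U : Set G))
    (hsmall : ∀ a ∈ U, (a ^ p = 1 ∨ (p = 2 ∧ a ^ 4 = 1)) → Commute x a) :
    ∀ a ∈ U, Commute x a := by
  induction hn : Nat.card U using Nat.strong_induction_on generalizing U with
  | _ n ih =>
    intro a ha
    by_cases hUbot : U = ⊥
    · rw [hUbot, mem_bot] at ha
      rw [ha]; exact Commute.one_right x
    have IH : ∀ V : Subgroup G, V < U → x ∈ normalizer (V : Set G) → ∀ b ∈ V, Commute x b := by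
      intro V hV hxV
      refine ih (Nat.card V) ?_ V (hU.to_le hV.le) hxV (fun b hb => hsmall b (hV.le hb)) rfl
      rw [← hn]
      refine lt_of_le_of_ne (Subgroup.card_le_of_le hV.le) fun h => hV.ne ?_
      exact Subgroup.eq_of_le_of_card_ge hV.le h.ge
    set Φ := (frattini U).map U.subtype with hΦdef
    have hΦle : Φ ≤ U := map_subtype_le _
    have hΦlt : Φ < U := by
      refine lt_of_le_of_ne hΦle fun h => ?_
      have h' : frattini U = ⊤ := by
        apply Subgroup.map_injective U.subtype_injective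
        rw [← hΦdef, h, ← MonoidHom.range_eq_map, range_subtype]
      have : Nontrivial U := (Subgroup.nontrivial_iff_ne_bot U).mpr hUbot
      obtain ⟨M, hM, -⟩ := (eq_top_or_exists_le_coatom (⊥ : Subgroup U)).resolve_left bot_ne_top
      exact hM.1 (top_le_iff.mp (h' ▸ Order.radical_le_coatom hM))
    have hxΦ : x ∈ normalizer (Φ : Set G) :=
      CfsgLib.Base.normalizer_le_normalizer_map_subtype U (frattini U) hxU
    have hΦfix : ∀ b ∈ Φ, Commute x b := IH Φ hΦlt hxΦ
    -- the displacement of an element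
    have hconj : ∀ {y : G}, y ∈ U → x * y * x⁻¹ ∈ U := fun hy =>
      (Subgroup.mem_normalizer_iff.mp hxU _).mp hy
    set c := a⁻¹ * (x * a * x⁻¹) with hcdef
    have hc : c ∈ U := mul_mem (inv_mem ha) (hconj ha)
    have hxa : x * a * x⁻¹ = a * c := by rw [hcdef, mul_inv_cancel_left]
    suffices hxc : Commute x c by
      have h1 := eq_one_of_commute_of_coprime hU hx hc hxc hxa
      rw [h1, mul_one, mul_inv_eq_iff_eq_mul] at hxa
      exact hxa
    have hnormΦ : ∀ y ∈ U, ∀ b ∈ Φ, y * b * y⁻¹ ∈ Φ := by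
      rintro y hy b ⟨b', hb', rfl⟩
      exact ⟨⟨y, hy⟩ * b' * ⟨y, hy⟩⁻¹, (inferInstance : (frattini U).Normal).conj_mem b' hb' _, rfl⟩
    have hcΦ : ∀ b ∈ Φ, Commute c b := by
      intro b hb
      have h1 : x * (a * b * a⁻¹) * x⁻¹ = a * b * a⁻¹ :=
        mul_inv_eq_iff_eq_mul.mpr (hΦfix _ (hnormΦ a ha b hb)).eq
      have h2 : x * b * x⁻¹ = b := mul_inv_eq_iff_eq_mul.mpr (hΦfix b hb).eq
      have h3 : (x * a * x⁻¹) * b * (x * a * x⁻¹)⁻¹ = a * b * a⁻¹ := by
        rw [← h1]; conv_lhs => rw [← h2]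
        group
      rw [hxa] at h3
      have h4 : c * b * c⁻¹ = b := by
        have := congrArg (fun z => a⁻¹ * z * a) h3
        simpa [mul_assoc] using this
      exact mul_inv_eq_iff_eq_mul.mp h4
    set W := U ⊓ centralizer (Φ : Set G) with hWdef
    have hcW : c ∈ W := ⟨hc, mem_centralizer_iff.mpr fun b hb => (hcΦ b hb).eq.symm⟩
    have hxW : x ∈ normalizer (W : Set G) :=
      CfsgLib.Coprime.le_normalizer_inf_inf (A := Subgroup.zpowers x) (zpowers_le.mpr hxU)
        (CfsgLib.Coprime.le_normalizer_centralizer (zpowers_le.mpr hxΦ)) (mem_zpowers x)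
    by_cases hW : W = U
    swap
    · exact IH W (lt_of_le_of_ne inf_le_left hW) hxW c hcW
    -- now the Frattini subgroup is central
    let aU : U := ⟨a, ha⟩
    let cU : U := ⟨c, hc⟩
    have hmemΦ : ∀ {y : U}, y ∈ frattini U → (y : G) ∈ Φ := fun hy => ⟨_, hy, rfl⟩
    have hcent : ∀ {y : U}, y ∈ frattini U → y ∈ center U := by
      intro y hy
      rw [mem_center_iff]
      intro z
      have hz : (z : G) ∈ W := hW.symm ▸ z.2
      exact Subtype.ext (mem_centralizer_iff.mp hz.2 _ (hmemΦ hy)).symm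
    have hcomm : ⁅cU, aU⁆ ∈ frattini U :=
      CfsgLib.PGroups.commutator_le_frattini hU
        (Subgroup.commutator_mem_commutator (mem_top _) (mem_top _))
    have hap : aU ^ p ∈ frattini U := CfsgLib.PGroups.pow_mem_frattini hU aU
    have hd : ⁅cU, aU⁆ ^ p = 1 := by
      rw [← CfsgLib.PGroups.commutator_pow_right_of_central (hcent hcomm) p,
        commutatorElement_eq_one_iff_commute]
      exact Subtype.ext (hcΦ _ (hmemΦ hap)).eq
    have hfix : (aU * cU) ^ p = aU ^ p := by
      refine Subtype.ext ?_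
      have h1 : (((aU * cU) ^ p : U) : G) = (x * a * x⁻¹) ^ p := by rw [hxa]; rfl
      rw [h1, conj_pow, mul_inv_eq_iff_eq_mul]
      exact (hΦfix _ (hmemΦ hap)).eq
    rw [CfsgLib.PGroups.mul_pow_of_central (hcent hcomm) p, mul_assoc, mul_eq_left] at hfix
    refine hsmall c hc ?_
    rcases hp.out.eq_two_or_odd' with h2 | hodd
    · right
      refine ⟨h2, ?_⟩
      subst h2
      rw [show Nat.choose 2 2 = 1 from rfl, pow_one, mul_eq_one_iff_eq_inv] at hfix
      have : cU ^ 4 = 1 := by rw [show (4 : ℕ) = 2 * 2 from rfl, pow_mul, hfix, inv_pow, hd, inv_one]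
      exact congrArg Subtype.val this
    · left
      have h3 : p ∣ p.choose 2 := by
        refine hp.out.dvd_choose_self (by norm_num) ?_
        rcases hp.out.two_le.lt_or_eq with h | h
        · exact h
        · exact absurd hodd (h ▸ by decide)
      obtain ⟨k, hk⟩ := h3
      rw [hk, pow_mul, hd, one_pow, mul_one] at hfix
      exact congrArg Subtype.val hfix

end CfsgLib.CoprimeSmall
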